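import Mathlib

/-!
The annihilator of the top exterior power of the cokernel of `R → P`, `P` projective of rank `n`.
-/

open scoped TensorProduct

namespace Groth.Agent.ExtCoker

universe u v w

/-- A rank `n` matrix over a field has an invertible `n × n` submatrix. -/
lemma exists_det_ne_zero {k : Type u} [Field k] {N n : ℕ} (E : Matrix (Fin N) (Fin N) k) (hE : E.rank = n) :
    ∃ (f g : Fin n → Fin N), (E.submatrix f g).det ≠ 0 := by
  classical
  obtain ⟨κ, a, ha, hsp, hli⟩ := exists_linearIndependent' k (fun j => E.col j)
  have : Finite κ := Finite.of_injective a ha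
  let _ := Fintype.ofFinite κ
  have hcard : Fintype.card κ = n := by
    rw [← hE, Matrix.rank_eq_finrank_span_cols, ← hsp, finrank_span_eq_card hli]
  let g : Fin n → Fin N := a ∘ (Fintype.equivFinOfCardEq hcard).symm
  have hC : LinearIndependent k (E.submatrix id g).col := hli.comp _ (Fintype.equivFinOfCardEq hcard).symm.injective
  obtain ⟨κ', a', ha', hsp', hli'⟩ := exists_linearIndependent' k (fun i => (E.submatrix id g).row i)
  have : Finite κ' := Finite.of_injective a' ha'
  let _ := Fintype.ofFinite κ'
  have hcard' : Fintype.card κ' = n := by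
    have hCr : (E.submatrix id g).rank = n := by
      rw [Matrix.rank_eq_finrank_span_cols, finrank_span_eq_card hC, Fintype.card_fin]
    rw [← hCr, Matrix.rank_eq_finrank_span_row, ← hsp', finrank_span_eq_card hli']
  refine ⟨a' ∘ (Fintype.equivFinOfCardEq hcard').symm, g, ?_⟩
  exact ((Matrix.isUnit_iff_isUnit_det _).1 (Matrix.linearIndependent_rows_iff_isUnit.1
    (hli'.comp _ (Fintype.equivFinOfCardEq hcard').symm.injective))).ne_zero

variable {R : Type u} [CommRing R] {P : Type v} [AddCommGroup P] [Module R P] [Module.Finite R P]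
  [Module.Projective R P]

/-- Near a prime, a projective module of rank `n` has `n` coordinates. -/
theorem exists_chart (n : ℕ) (p : PrimeSpectrum R) (hp : Module.rankAtStalk P p = n) :
    ∃ (x : Fin n → P) (φ : Fin n → (P →ₗ[R] R)),
      Matrix.det (Matrix.of fun i j => φ i (x j)) ∉ p.asIdeal ∧
      ∀ y : P, ∃ f ∉ p.asIdeal, f • y ∈ Submodule.span R (Set.range x) := by
  classical
  obtain ⟨N, π, hπ⟩ := Module.Finite.exists_fin' R P
  obtain ⟨σ, hσ⟩ := Module.projective_lifting_property π LinearMap.id hπ
  let κ := p.asIdeal.ResidueField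
  let xs : Fin N → P := fun k => π (Pi.single k 1)
  let φs : Fin N → (P →ₗ[R] R) := fun k => LinearMap.proj k ∘ₗ σ
  have hdual : ∀ y, ∑ k, φs k y • xs k = y := fun y => by
    conv_rhs => rw [← LinearMap.id_apply (R := R) y, ← hσ, LinearMap.comp_apply, pi_eq_sum_univ' (σ y), map_sum]
    simp [φs, xs]
  let pibar : (Fin N → κ) →ₗ[κ] κ ⊗[R] P := Fintype.linearCombination κ fun k => (1 : κ) ⊗ₜ[R] xs k
  let sbar : κ ⊗[R] P →ₗ[κ] (Fin N → κ) :=
    LinearMap.pi fun l => (TensorProduct.AlgebraTensorModule.rid R κ κ).toLinearMap ∘ₗ (φs l).baseChange κ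
  have hs1 : ∀ (c : κ) (y : P) (l : Fin N), sbar (c ⊗ₜ[R] y) l = φs l y • c := fun c y l => by
    simp [sbar]
  have hid : ∀ z, pibar (sbar z) = z := by
    intro z
    induction z using TensorProduct.induction_on with
    | zero => simp
    | add a b ha hb => rw [map_add, map_add, ha, hb]
    | tmul c y =>
      conv_rhs => rw [← hdual y, TensorProduct.tmul_sum]
      simp only [pibar, Fintype.linearCombination_apply, hs1]
      refine Finset.sum_congr rfl fun k _ => ?_
      rw [TensorProduct.smul_tmul', smul_eq_mul, mul_one, TensorProduct.smul_tmul]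
  let E : Matrix (Fin N) (Fin N) κ := Matrix.of fun i j => algebraMap R κ (φs i (xs j))
  have hE : E.mulVecLin = sbar ∘ₗ pibar := by
    refine LinearMap.pi_ext' fun j => LinearMap.ext_ring (funext fun l => ?_)
    simp [E, pibar, Fintype.linearCombination_apply, hs1, Pi.single_apply, Algebra.smul_def]
  have hrank : E.rank = n := by
    have hinj : Function.Injective sbar := Function.LeftInverse.injective hid
    rw [Matrix.rank, hE, LinearMap.range_comp_of_range_eq_top sbar
      (LinearMap.range_eq_top.2 (Function.RightInverse.surjective hid)),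
      LinearMap.finrank_range_of_inj hinj, ← hp, Module.rankAtStalk_eq]
  obtain ⟨f, g, hdet⟩ := exists_det_ne_zero E hrank
  refine ⟨xs ∘ g, φs ∘ f, fun hmem => hdet ?_, ?_⟩
  · have : E.submatrix f g = (algebraMap R κ).mapMatrix (Matrix.of fun i j => (φs ∘ f) i ((xs ∘ g) j)) := rfl
    rw [this, ← RingHom.map_det]
    exact Ideal.algebraMap_residueField_eq_zero.2 hmem
  · intro y
    have hli : LinearIndependent κ fun j => (1 : κ) ⊗ₜ[R] xs (g j) := by
      rw [Fintype.linearIndependent_iff]
      intro c hc
      have hz : ∀ i, (E.submatrix f g).mulVec c i = 0 := fun i => by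
        have := congrFun (congrArg sbar hc) (f i)
        rw [map_sum, Finset.sum_apply, map_zero, Pi.zero_apply] at this
        simp only [map_smul, Pi.smul_apply, hs1, smul_eq_mul] at this
        simpa [E, Matrix.mulVec, dotProduct, Algebra.smul_def, mul_comm] using this
      exact congrFun (Matrix.eq_zero_of_mulVec_eq_zero hdet (funext hz))
    have htop : Submodule.span κ (Set.range fun j => (1 : κ) ⊗ₜ[R] xs (g j)) = ⊤ := by
      haveI : Module.Finite κ (κ ⊗[R] P) := inferInstance
      refine hli.span_eq_top_of_card_eq_finrank' ?_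
      rw [Fintype.card_fin, ← hp, Module.rankAtStalk_eq]
    let S := Submodule.span R (Set.range (xs ∘ g))
    have hns : p ∉ Module.support R (P ⧸ S) := by
      rw [Module.mem_support_iff_nontrivial_residueField_tensorProduct, not_nontrivial_iff_subsingleton]
      refine subsingleton_of_forall_eq 0 fun z => ?_
      obtain ⟨z, rfl⟩ := LinearMap.lTensor_surjective κ S.mkQ_surjective z
      have hz : z ∈ Submodule.span κ (Set.range fun j => (1 : κ) ⊗ₜ[R] xs (g j)) := htop ▸ Submodule.mem_top
      induction hz using Submodule.span_induction with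
      | mem _ h =>
        obtain ⟨j, rfl⟩ := h
        rw [LinearMap.lTensor_tmul, Submodule.mkQ_apply,
          (Submodule.Quotient.mk_eq_zero S).2 (Submodule.subset_span ⟨j, rfl⟩ : xs (g j) ∈ S), TensorProduct.tmul_zero]
      | zero => simp
      | add a b _ _ ha hb => rw [map_add, ha, hb, add_zero]
      | smul c a _ ha =>
        change (S.mkQ.baseChange κ) (c • a) = 0
        rw [map_smul]
        change c • (LinearMap.lTensor κ S.mkQ a) = 0
        rw [ha, smul_zero]
    obtain ⟨r, hr, hr0⟩ := Module.notMem_support_iff'.1 hns (S.mkQ y)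
    refine ⟨r, hr, (Submodule.Quotient.mk_eq_zero S).1 ?_⟩
    rwa [Submodule.Quotient.mk_smul]

variable {N : Type w} [AddCommGroup N] [Module R N]

theorem annihilator_extPower_coker (n : ℕ) (hn : ∀ p : PrimeSpectrum R, Module.rankAtStalk P p = n) (w : P)
    (π : P →ₗ[R] N) (hπ : Function.Surjective π) (hker : LinearMap.ker π = Submodule.span R {w}) :
    (⋀[R]^n N).annihilator = Ideal.span (Set.range fun φ : P →ₗ[R] R => φ w) := by
  classical
  set I := Ideal.span (Set.range fun φ : P →ₗ[R] R => φ w) with hI
  have hw : π w = 0 := LinearMap.mem_ker.1 (hker ▸ Submodule.mem_span_singleton_self w)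
  refine le_antisymm (fun s hs => ?_) (Ideal.span_le.2 ?_)
  · by_contra hsI
    obtain ⟨m, hm, hle⟩ := Ideal.exists_le_maximal (Submodule.colon I {s})
      (fun h => hsI (by simpa using Submodule.mem_colon_singleton.1 (h ▸ Submodule.mem_top : (1 : R) ∈ _)))
    obtain ⟨x, φ, hdet, -⟩ := exists_chart n ⟨m, hm.isPrime⟩ (hn _)
    refine hdet (hle (Submodule.mem_colon_singleton.2 ?_))
    -- functionals on `N` modulo `I`
    let ψ : Fin n → (N →ₗ[R] (R ⧸ I)) := fun i =>
      (LinearMap.ker π).liftQ (Submodule.mkQ I ∘ₗ φ i) (by
        rw [hker, Submodule.span_singleton_le_iff_mem, LinearMap.mem_ker]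
        exact (Submodule.Quotient.mk_eq_zero I).2 (Ideal.subset_span ⟨φ i, rfl⟩)) ∘ₗ
        (π.quotKerEquivOfSurjective hπ).symm.toLinearMap
    have hψ : ∀ i y, ψ i (π y) = Ideal.Quotient.mk I (φ i y) := fun i y => by
      have : (π.quotKerEquivOfSurjective hπ).symm (π y) = Submodule.Quotient.mk y :=
        (LinearEquiv.symm_apply_eq _).2 rfl
      simp only [ψ, LinearMap.comp_apply, LinearEquiv.coe_coe, this]
      rfl
    let Δ : N [⋀^Fin n]→ₗ[R] (R ⧸ I) :=
      { toFun := fun v => Matrix.det (Matrix.of fun j i => ψ i (v j))
        map_update_add' := fun {inst} v j a b => by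
          obtain rfl : inst = instDecidableEqFin n := Subsingleton.elim _ _
          have e : ∀ z, (Matrix.of fun j' i => ψ i (Function.update v j z j')) =
              (Matrix.of fun j' i => ψ i (v j')).updateRow j (fun i => ψ i z) := by
            intro z; ext j' i
            by_cases h : j' = j
            · subst h; simp
            · simp [h]
          rw [e, e, e, show (fun i => ψ i (a + b)) = (fun i => ψ i a) + (fun i => ψ i b) from funext fun i => map_add _ _ _,
            Matrix.det_updateRow_add]
        map_update_smul' := fun {inst} v j c a => by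
          obtain rfl : inst = instDecidableEqFin n := Subsingleton.elim _ _
          have e : ∀ z, (Matrix.of fun j' i => ψ i (Function.update v j z j')) =
              (Matrix.of fun j' i => ψ i (v j')).updateRow j (fun i => ψ i z) := by
            intro z; ext j' i
            by_cases h : j' = j
            · subst h; simp
            · simp [h]
          rw [e, e, show (fun i => ψ i (c • a)) = Ideal.Quotient.mk I c • (fun i => ψ i a) from funext fun i => by
            rw [map_smul, Pi.smul_apply, Algebra.smul_def]; rfl, Matrix.det_updateRow_smul, Algebra.smul_def]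
          rfl
        map_eq_zero_of_eq' := fun v j l hv hjl => Matrix.det_zero_of_row_eq hjl (funext fun i => by simp [hv]) }
    have h1 : exteriorPower.alternatingMapLinearEquiv Δ (s • exteriorPower.ιMulti R n (fun j => π (x j))) = 0 := by
      rw [Module.mem_annihilator.1 hs, map_zero]
    rw [map_smul, exteriorPower.alternatingMapLinearEquiv_apply_ιMulti] at h1
    change s • Matrix.det (Matrix.of fun j i => ψ i (π (x j))) = 0 at h1
    simp only [hψ] at h1
    rw [← Matrix.det_transpose, show (Matrix.of fun j i => Ideal.Quotient.mk I (φ i (x j))).transpose =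
      (Ideal.Quotient.mk I).mapMatrix (Matrix.of fun i j => φ i (x j)) from rfl, ← RingHom.map_det] at h1
    rw [smul_eq_mul, mul_comm, ← Ideal.Quotient.eq_zero_iff_mem, map_mul]
    exact h1
  · rintro _ ⟨φ, rfl⟩
    rw [SetLike.mem_coe, Module.mem_annihilator]
    let Ψ : P [⋀^Fin (n + 1)]→ₗ[R] ⋀[R]^n P :=
      AlternatingMap.alternatizeUncurryFin (φ.smulRight (exteriorPower.ιMulti R n))
    have hΨ : ∀ v, Ψ v = 0 := by
      intro v
      rw [← Ideal.torsionOf_eq_top_iff (R := R)]
      by_contra htop
      obtain ⟨m, hm, hle⟩ := Ideal.exists_le_maximal _ htop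
      obtain ⟨x, -, -, hx⟩ := exists_chart n ⟨m, hm.isPrime⟩ (hn _)
      choose f hf hfx using fun i => hx (v i)
      choose c hc using fun i => (Submodule.mem_span_range_iff_exists_fun R).1 (hfx i)
      have h0 : Ψ.compLinearMap (Fintype.linearCombination R x) = 0 :=
        (Pi.basisFun R (Fin n)).ext_alternating fun e he =>
          absurd (Fintype.card_le_of_injective e he) (by simp)
      have h2 : (∏ i, f i) • Ψ v = 0 := by
        rw [← AlternatingMap.coe_multilinearMap, ← MultilinearMap.map_smul_univ, AlternatingMap.coe_multilinearMap]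
        have e : (fun i => f i • v i) = fun i => Fintype.linearCombination R x (c i) := funext fun i => by
          rw [Fintype.linearCombination_apply, hc]
        rw [e]
        exact DFunLike.congr_fun h0 c
      obtain ⟨i, -, hi⟩ := hm.isPrime.prod_mem_iff.1 (hle ((Ideal.mem_torsionOf_iff _ _).2 h2))
      exact hf i hi
    intro z
    have hz : z ∈ Submodule.span R (Set.range (exteriorPower.ιMulti R n (M := N))) := by
      rw [exteriorPower.ιMulti_span]; trivial
    induction hz using Submodule.span_induction with
    | zero => simp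
    | add a b _ _ ha hb => rw [smul_add, ha, hb, add_zero]
    | smul c a _ ha => rw [smul_comm, ha, smul_zero]
    | mem _ h =>
      obtain ⟨y, rfl⟩ := h
      choose x hx using fun j => hπ (y j)
      have h1 := congrArg (exteriorPower.map n π) (hΨ (Fin.cons w x))
      rw [AlternatingMap.alternatizeUncurryFin_apply, Fin.sum_univ_succ, map_add, map_sum, map_zero,
        Finset.sum_eq_zero (fun i _ => ?_), add_zero] at h1
      · simpa [exteriorPower.map_apply_ιMulti, Fin.removeNth_zero, Function.comp_def, hx] using h1
      · cases n with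
        | zero => exact i.elim0
        | succ n =>
          simp only [LinearMap.smulRight_apply, AlternatingMap.smul_apply, map_smul, map_zsmul,
            exteriorPower.map_apply_ιMulti]
          rw [AlternatingMap.map_coord_zero (exteriorPower.ιMulti R (n + 1)) (i := 0), smul_zero, smul_zero]
          simp [Fin.removeNth, hw]

end Groth.Agent.ExtCoker
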